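import Cfsg.Agent.WA.Sm0
import Cfsg.Agent.S0813

/-! Involution centralizers `2 × Aₘ`. -/

set_option autoImplicit false
set_option linter.unusedSectionVars false
set_option linter.style.haveILetI false

namespace Cfsg.Agent.WA

open Subgroup Cfsg.Agent.H11 Equiv
open scoped MatrixGroups

section
variable {α : Type*} [Fintype α] [DecidableEq α]

theorem comm_swap {f : Perm α} {u v : α} (h : (f u = u ∧ f v = v) ∨ (f u = v ∧ f v = u)) :
    f * swap u v = swap u v * f := by
  rw [mul_swap_eq_swap_mul]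
  rcases h with ⟨a, b⟩ | ⟨a, b⟩ <;> rw [a, b]
  rw [swap_comm]

variable (h6 : 6 ≤ Fintype.card α) {a : Perm α} (ha : ∀ x, a (a x) = x) {N : Subgroup (Perm α)}
  (hN : ∀ p : Perm α, Perm.sign p = 1 → p * a = a * p → p * p ∈ N)
include h6 ha hN

theorem pair_mem {x y : α} (hx : a x ≠ x) (hy : a y ≠ y) (h1 : y ≠ x) (h2 : y ≠ a x) :
    swap y (a y) * swap x (a x) ∈ N := by
  have h3 : a y ≠ x := fun e => h2 (by rw [← e, ha])
  have h4 : a y ≠ a x := fun e => h1 (a.injective e)
  obtain ⟨z, w, n, hz, hw, e⟩ : ∃ z w, z ≠ w ∧ z ∉ ({x, a x, y, a y} : Finset α) ∧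
      w ∉ ({x, a x, y, a y} : Finset α) ∧ ((a z = z ∧ a w = w) ∨ (a z = w ∧ a w = z)) := by
    have c : 1 < ({x, a x, y, a y} : Finset α)ᶜ.card := by
      have := Finset.card_le_four (a := x) (b := a x) (c := y) (d := a y)
      rw [Finset.card_compl]; omega
    obtain ⟨z, hz, w, hw, n⟩ := Finset.one_lt_card.1 c
    rw [Finset.mem_compl] at hz hw
    have k : ∀ z, z ∉ ({x, a x, y, a y} : Finset α) → a z ∉ ({x, a x, y, a y} : Finset α) :=
      fun z hz e => hz (by
        simp only [Finset.mem_insert, Finset.mem_singleton] at e ⊢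
        rw [← ha z]
        rcases e with e | e | e | e <;> simp [e, ha])
    by_cases e1 : a z = z
    · by_cases e2 : a w = w
      · exact ⟨z, w, n, hz, hw, .inl ⟨e1, e2⟩⟩
      · exact ⟨w, a w, Ne.symm e2, hw, k w hw, .inr ⟨rfl, ha w⟩⟩
    · exact ⟨z, a z, Ne.symm e1, hz, k z hz, .inr ⟨rfl, ha z⟩⟩
  simp only [Finset.mem_insert, Finset.mem_singleton, not_or] at hz hw
  obtain ⟨z1, z2, z3, z4⟩ := hz
  obtain ⟨w1, w2, w3, w4⟩ := hw
  set σ := swap x y * swap (a x) (a y) with hσ
  have c1 : σ * swap z w = swap z w * σ :=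
    comm_swap (.inl ⟨by simp [σ, swap_apply_of_ne_of_ne, *], by simp [σ, swap_apply_of_ne_of_ne, *]⟩)
  have c2 : swap x (a x) * swap z w = swap z w * swap x (a x) :=
    comm_swap (.inl ⟨by simp [swap_apply_of_ne_of_ne, *], by simp [swap_apply_of_ne_of_ne, *]⟩)
  have c3 : swap (a x) (a y) * swap x y = σ :=
    comm_swap (.inl ⟨swap_apply_of_ne_of_ne hx.symm h3.symm, swap_apply_of_ne_of_ne h2 hy.symm⟩)
  have c4 : σ * swap x (a x) = swap y (a y) * σ := by
    rw [mul_swap_eq_swap_mul]
    simp [σ, swap_apply_of_ne_of_ne hx.symm h3.symm, swap_apply_of_ne_of_ne h3 hy]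
  have c5 : σ * σ = 1 := by
    nth_rewrite 1 [← c3]
    rw [hσ, mul_assoc, ← mul_assoc (swap x y), swap_mul_self, one_mul, swap_mul_self]
  have c6 : a * σ = σ * a := by
    rw [hσ, ← mul_assoc, mul_swap_eq_swap_mul a, mul_assoc, mul_swap_eq_swap_mul a, ha, ha,
      ← mul_assoc, c3]
  have := hN (σ * swap x (a x) * swap z w) (by
      simp [σ, Perm.sign_swap h1.symm, Perm.sign_swap h4.symm, Perm.sign_swap hx.symm,
        Perm.sign_swap n]) (by
      rw [mul_assoc, ← comm_swap e, ← mul_assoc, mul_assoc σ, ← comm_swap (.inr ⟨rfl, ha x⟩),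
        ← mul_assoc, ← c6]; simp only [mul_assoc])
  have e2 : σ * swap x (a x) * swap z w * (σ * swap x (a x) * swap z w) =
      swap y (a y) * swap x (a x) := by
    calc _ = σ * swap x (a x) * (swap z w * σ) * swap x (a x) * swap z w := by simp only [mul_assoc]
      _ = σ * swap x (a x) * σ * (swap z w * swap x (a x)) * swap z w := by
        rw [← c1]; simp only [mul_assoc]
      _ = _ := by
        rw [← c2, c4, mul_assoc _ σ σ, c5, mul_one, mul_assoc, mul_assoc, swap_mul_self, mul_one]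
  exact e2 ▸ this

omit h6 hN in
theorem red {b : Perm α} (hb : ∀ x, b x = x ∨ b x = a x) {x : α} (hx : b x ≠ x) :
    a x ≠ x ∧ (b * swap x (a x)).support ⊂ b.support ∧ x ∉ (b * swap x (a x)).support ∧
      a x ∉ (b * swap x (a x)).support ∧
      ∀ y, (b * swap x (a x)) y = y ∨ (b * swap x (a x)) y = a y := by
  have e1 := (hb x).resolve_left hx
  have n : a x ≠ x := e1 ▸ hx
  have e2 : b (a x) = x := ((hb (a x)).resolve_left fun e => n (b.injective (e.trans e1.symm))).trans
    (ha x)
  have k : ∀ y, y = x ∨ y = a x ∨ (b * swap x (a x)) y = b y := fun y => by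
    by_cases c1 : y = x
    · exact .inl c1
    by_cases c2 : y = a x
    · exact .inr (.inl c2)
    exact .inr (.inr (by simp [swap_apply_of_ne_of_ne c1 c2]))
  have f1 : (b * swap x (a x)) x = x := by simp [e2]
  have f2 : (b * swap x (a x)) (a x) = a x := by simp [e1]
  refine ⟨n, ⟨fun y hy => ?_, fun h => ?_⟩, by simp [e2], by simp [e1], fun y => ?_⟩
  · rw [Perm.mem_support] at hy ⊢
    rcases k y with rfl | rfl | e
    exacts [hx, absurd f2 hy, e ▸ hy]
  · exact Perm.mem_support.1 (h (Perm.mem_support.2 hx)) f1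
  · rcases k y with rfl | rfl | e
    exacts [.inl f1, .inl f2, e ▸ hb y]

theorem sub_mem (n : ℕ) : ∀ b : Perm α, b.support.card < n → Perm.sign b = 1 →
    (∀ x, b x = x ∨ b x = a x) → b ∈ N := by
  induction n with
  | zero => intro b h; omega
  | succ n ih =>
  intro b hn hs hb
  by_cases e : b = 1
  · exact e ▸ one_mem N
  obtain ⟨x, hx⟩ : ∃ x, b x ≠ x := by
    by_contra! c; exact e (Equiv.ext c)
  obtain ⟨a1, a2, a3, a4, a5⟩ := red ha hb hx
  obtain ⟨y, hy⟩ : ∃ y, (b * swap x (a x)) y ≠ y := by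
    by_contra! c
    have := congrArg Perm.sign (Equiv.ext c : b * swap x (a x) = 1)
    simp [hs, Perm.sign_swap a1.symm] at this
  obtain ⟨b1, b2, -, -, b5⟩ := red ha a5 hy
  have := mul_mem (ih _ (by have := Finset.card_lt_card (b2.trans a2); omega)
    (by simp [hs, Perm.sign_swap a1.symm, Perm.sign_swap b1.symm]) b5)
    (pair_mem h6 ha hN a1 b1 (fun e => a3 (Perm.mem_support.2 (by rwa [e] at hy)))
      fun e => a4 (Perm.mem_support.2 (by rwa [e] at hy)))
  simpa [mul_assoc] using this

end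

universe u
variable {G : Type u} [Group G] [Finite G]

theorem idp_index {t : G} {E : Subgroup G} (hc : IsTwoCentralInvolution t)
    (h : IsInternalDirectProduct (zpowers t) E (centralizer {t})) : E.index % 4 = 2 := by
  obtain ⟨ht, P, hP, hP2⟩ := hc
  have ho : ¬ 2 ∣ (centralizer ({t} : Set G)).index := fun a =>
    P.not_dvd_index (a.trans (index_dvd_of_le fun x hx => mem_cent1.2 (hP2 x hx)))
  have a := card_mul_relIndex h.2.1
  rw [idp_card h, Nat.card_zpowers, ht, mul_comm] at a
  rw [← relIndex_mul_index h.2.1, Nat.eq_of_mul_eq_mul_right Nat.card_pos a]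
  omega

theorem alt_big (no : ∀ H : Subgroup G, H.index ≠ 2) {t : G} {E : Subgroup G}
    (hc : IsTwoCentralInvolution t) (h : IsInternalDirectProduct (zpowers t) E (centralizer {t}))
    {m : ℕ} (hm : 6 ≤ m) (f : E ≃* alternatingGroup (Fin m)) : False := by
  have tt := mul_self_of_orderOf_two hc.1
  obtain ⟨g, hg⟩ := (thompson_transfer (idp_index hc h) tt).resolve_left fun ⟨M, a, _⟩ => no M a
  have aa : f ⟨_, hg⟩ * f ⟨_, hg⟩ = 1 := by
    rw [← map_mul, map_eq_one_iff _ f.injective]
    exact Subtype.ext (mul_self_of_orderOf_two ((orderOf_conj g t).trans hc.1))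
  have := sub_mem (α := Fin m) (by simpa using hm) (a := (f ⟨_, hg⟩).1)
    (fun x => by rw [← Perm.mul_apply, ← coe_mul, aa]; rfl)
    (N := ((cj g E).subgroupOf E).map ((Subgroup.subtype _).comp f.toMonoidHom)) (fun p hp e => by
      obtain ⟨y, hy⟩ := f.surjective ⟨p, Perm.mem_alternatingGroup.2 hp⟩
      obtain rfl : (f y).1 = p := congrArg Subtype.val hy
      refine ⟨y * y, ?_, by simp⟩
      have e2 : (y : G) * (g * t * g⁻¹) = g * t * g⁻¹ * y := congrArg Subtype.val
        (f.injective (a₁ := y * ⟨_, hg⟩) (a₂ := ⟨_, hg⟩ * y) (by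
          rw [map_mul, map_mul]; exact Subtype.ext e))
      have e3 : g⁻¹ * y * g * t = t * (g⁻¹ * y * g) := by
        calc _ = g⁻¹ * (y * (g * t * g⁻¹)) * g := by group
          _ = _ := by rw [e2]; group
      change (y : G) * y ∈ cj g E
      rw [mem_cj, show g⁻¹ * (y * y) * g = g⁻¹ * y * g * (g⁻¹ * y * g) by group]
      generalize g⁻¹ * y * g = w at e3 ⊢
      rcases idp_mem tt h (mem_cent1.2 e3) with b | b
      · exact mul_mem b b
      · have := mul_mem b b
        rwa [mul_assoc, ← mul_assoc _ t, e3, ← mul_assoc, ← mul_assoc, tt, one_mul] at this)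
    _ _ (Nat.lt_succ_self _) (Perm.mem_alternatingGroup.1 (f ⟨_, hg⟩).2) fun _ => .inr rfl
  obtain ⟨y, hy, e⟩ := this
  obtain rfl : y = ⟨_, hg⟩ := f.injective (Subtype.ext e)
  exact idp_not_mem hc.1 h (by simpa [mul_assoc] using mem_cj.1 hy)

theorem alt_small (no : ∀ H : Subgroup G, H.index ≠ 2) {t : G} {E : Subgroup G}
    (hc : IsTwoCentralInvolution t) (h : IsInternalDirectProduct (zpowers t) E (centralizer {t}))
    (ho : Odd (Nat.card E)) : False := by
  have tt := mul_self_of_orderOf_two hc.1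
  obtain ⟨g, hg⟩ := (thompson_transfer (idp_index hc h) tt).resolve_left fun ⟨M, a, _⟩ => no M a
  have := ho.of_dvd_nat (E.orderOf_dvd_natCard hg)
  rw [orderOf_conj, hc.1] at this
  exact absurd this (by decide)

abbrev M4 := JR.Z2 × alternatingGroup (Fin 4)

theorem card_M4 : Nat.card M4 = 24 := by
  rw [Nat.card_eq_fintype_card]; decide +kernel

theorem M4_sq : ∀ m : M4, m ^ 8 = 1 → m * m = 1 := by decide +kernel

theorem M4_cnt : Nat.card {m : M4 // m * m = 1} = 8 := by
  rw [Nat.card_eq_fintype_card]; decide +kernel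

theorem M4_cent : ∀ m : M4, m * m = 1 ∨ ∃ x, x * x = 1 ∧ m * x ≠ x * m := by decide +kernel

theorem M4_odd : ∀ m : M4, m ^ 3 = 1 → (∀ x, (m * (x * m⁻¹ * x⁻¹)) ^ 3 = 1) → m = 1 := by
  decide +kernel

theorem M4_three : ∃ m : M4, m * m ≠ 1 := by decide +kernel

theorem alt_four (hns : ¬ Group.IsSolvable G) (no : ∀ H : Subgroup G, H.index ≠ 2) {t : G}
    (hc : IsTwoCentralInvolution t) (e : centralizer ({t} : Set G) ≃* M4) :
    ∃ (F : Type) (_ : Field F) (_ : Fintype F), Fintype.card F = 8 ∧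
      Nonempty (G ≃* MulAut PSL(2, F)) := by
  obtain ⟨ht, S, htS, hS⟩ := hc
  have cC : Nat.card (centralizer ({t} : Set G)) = 24 := (Nat.card_congr e.toEquiv).trans card_M4
  have le : (S : Subgroup G) ≤ centralizer {t} := fun x hx => mem_cent1.2 (hS x hx)
  have c8 : Nat.card (S : Subgroup G) = 8 := by
    rw [(isSylIn_of_sylow_le S le).card_eq_pow, cC]; decide +kernel
  have sq : ∀ x ∈ (S : Subgroup G), x * x = 1 := fun x hx => by
    have := M4_sq (e ⟨x, le hx⟩) (by
      rw [← map_pow, map_eq_one_iff _ e.injective, Subtype.ext_iff, coe_pow, ← c8]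
      exact congrArg Subtype.val (pow_card_eq_one' (x := (⟨x, hx⟩ : (S : Subgroup G)))))
    rw [← map_mul, map_eq_one_iff _ e.injective] at this
    exact congrArg Subtype.val this
  have mem : ∀ x : centralizer ({t} : Set G), x * x = 1 → (x : G) ∈ (S : Subgroup G) := by
    have := (Nat.bijective_iff_injective_and_card (α := (S : Subgroup G))
      (β := {m : M4 // m * m = 1}) (fun x => ⟨e ⟨x, le x.2⟩, by
        rw [← map_mul, map_eq_one_iff _ e.injective]; exact Subtype.ext (sq x x.2)⟩)).2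
      ⟨fun x y a => Subtype.ext (congrArg Subtype.val (e.injective (congrArg Subtype.val a)) :),
        c8.trans M4_cnt.symm⟩
    intro x hx
    obtain ⟨y, hy⟩ := this.2 ⟨e x, by rw [← map_mul, hx, map_one]⟩
    rw [← e.injective (congrArg Subtype.val hy)]
    exact y.2
  have nrm : centralizer {t} ≤ normalizer ((S : Subgroup G) : Set G) := by
    refine fun g hg => mem_normalizer_of_forall fun x hx =>
      mem ⟨_, mul_mem (mul_mem hg (le hx)) (inv_mem hg)⟩ (Subtype.ext ?_)
    change g * x * g⁻¹ * (g * x * g⁻¹) = 1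
    rw [show g * x * g⁻¹ * (g * x * g⁻¹) = g * (x * x) * g⁻¹ by group, sq x hx]; simp
  have s8 : JR.S8 t S := by
    refine ⟨ht, htS, c8, sq, fun g hg => mem ⟨g, mem_cent1.2 (hg t htS)⟩ (e.injective ?_), ?_⟩
    · rw [map_mul, map_one]
      refine (M4_cent _).resolve_right fun ⟨x, hx, ne⟩ => ne ?_
      obtain ⟨y, rfl⟩ := e.surjective x
      rw [← map_mul, map_eq_one_iff _ e.injective] at hx
      rw [← map_mul, ← map_mul]
      exact congrArg e (Subtype.ext (hg y (mem y hx)))
    · rw [inf_eq_right.2 nrm, cC]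
  obtain ⟨s, r, hF⟩ := s8.exists_F168 no
  have hSc : IsMulCommutative (S : Subgroup G) := ⟨⟨fun a b => Subtype.ext (s8.comm a.2 b.2)⟩⟩
  have hC : ∀ u : G, orderOf u = 2 → Group.IsSolvable (centralizer ({u} : Set G)) := fun u hu => by
    obtain ⟨g, rfl⟩ := hF.conj hu
    haveI : ((S.subtype le : Sylow 2 _) : Subgroup (centralizer ({t} : Set G))).Normal :=
      (normal_subgroupOf_iff_le_normalizer le).2 nrm
    haveI := FT.solvable_of_normal_sylow H10.oddSolv (S.subtype le)
    rw [← cj_cent1]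
    exact solvable_of_surjective (f := ((centralizer {t}).equivMapOfInjective _
      (MulAut.conj g).injective).toMonoidHom) (MulEquiv.surjective _)
  have all : ∀ N : Subgroup G, N.Normal → 2 ∣ Nat.card N → (S : Subgroup G) ≤ N := fun N hN a x hx => by
    obtain ⟨u, hu, o⟩ := exists_invol_of_even (even_iff_two_dvd.2 a)
    by_cases e1 : x = 1
    · exact e1 ▸ one_mem N
    obtain ⟨g, rfl⟩ := hF.conj o
    obtain ⟨k, rfl⟩ := hF.conj (orderOf_two_of e1 (sq x hx))
    simpa [mul_assoc] using hN.conj_mem _ (hN.conj_mem _ hu g⁻¹) k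
  have hO : oddCore G = ⊥ := by
    have ho : Odd (Nat.card (oddCore G)) := GW.odd_oddCore
    have hn : (oddCore G).Normal := inferInstance
    have k : ∀ u, orderOf u = 2 → oddCore G ⊓ centralizer {u} ≤ ⊥ := fun u hu x hx => by
      obtain ⟨g, rfl⟩ := hF.conj hu
      have k3 : ∀ y : centralizer ({t} : Set G), (y : G) ∈ oddCore G → e y ^ 3 = 1 := fun y hy => by
        rw [← map_pow, map_eq_one_iff _ e.injective, ← orderOf_dvd_iff_pow_eq_one]
        have a := orderOf_dvd_natCard y
        rw [cC] at a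
        have b := ho.of_dvd_nat ((oddCore G).orderOf_dvd_natCard hy)
        rw [orderOf_coe] at b
        exact (Nat.Coprime.pow_right 3 (Nat.coprime_two_right.2 b)).dvd_of_dvd_mul_left a
      have m1 : g⁻¹ * x * g ∈ centralizer {t} := mem_cj.1 (cj_cent1 g t ▸ hx.2)
      have m2 : g⁻¹ * x * g ∈ oddCore G := by simpa using hn.conj_mem x hx.1 g⁻¹
      have := M4_odd (e ⟨_, m1⟩) (k3 _ m2) fun z => by
        obtain ⟨y, rfl⟩ := e.surjective z
        rw [← map_inv, ← map_inv, ← map_mul, ← map_mul, ← map_mul]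
        exact k3 _ (mul_mem m2 (hn.conj_mem _ (inv_mem m2) _))
      rw [map_eq_one_iff _ e.injective, Subtype.ext_iff] at this
      rw [mem_bot]
      calc x = g * (g⁻¹ * x * g) * g⁻¹ := by group
        _ = 1 := by rw [show g⁻¹ * x * g = 1 from this]; simp
    obtain ⟨n, hn, ne⟩ := s8.exists_conj_ne no
    have m := conj_mem_of_mem_normalizer hn htS
    have o := (orderOf_conj n t).trans ht
    exact eq_bot_iff.2 (JR.klein_gen ht o ne.symm (s8.comm htS m) ho
      ((normalizer_eq_top _).ge trivial) ((normalizer_eq_top _).ge trivial) (k _ ht) (k _ o)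
      (k _ (orderOf_two_of (fun a => ne (by
        rw [eq_inv_of_mul_eq_one_right a, inv_eq_of_mul_eq_one_left (sq t htS)]))
        (sq _ (mul_mem htS m)))))
  have h2 : pCore 2 G = ⊥ := by
    by_contra a
    have := le_antisymm (H1.pCore_le_sylow S) (all _ inferInstance
      ((H1.isPGroup_pCore 2 G).card_eq_or_dvd.resolve_left fun b => a (card_eq_one.1 b)))
    haveI : (S : Subgroup G).Normal := this ▸ inferInstance
    exact hns (FT.solvable_of_normal_sylow H10.oddSolv S)
  haveI : Nontrivial G := ⟨t, 1, ne_one_of_orderOf_two ht⟩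
  obtain ⟨N, hN, _, nc, hc⟩ := exists_simple_normal hC hO h2
  have sN := all N hN (by
    by_contra a
    exact GW.not_solvable_of_perfect (GW.perfect_of_simple nc)
      (FT.solvable_of_odd (Nat.odd_iff.2 (by omega))))
  have d8 : 8 ∣ Nat.card N := c8 ▸ card_dvd_of_le sN
  have n16 : ¬ 16 ∣ Nat.card N := fun a => by
    have b := a.trans (card_subgroup_dvd_card N)
    have := S.not_dvd_index
    rw [← (S : Subgroup G).card_mul_index, c8] at b
    omega
  obtain ⟨F, _, _, hF8, ⟨f⟩⟩ := psl2_of_abelian (S.subtype sN)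
    ⟨⟨fun a b => Subtype.ext (Subtype.ext (s8.comm a.2 b.2))⟩⟩ (fun u hu => by
      haveI := hC u ((orderOf_coe u).trans hu)
      exact solvable_of_solvable_injective (G' := centralizer ({(u : G)} : Set G))
        (f := (N.subtype.comp (Subgroup.subtype _)).codRestrict _ fun x =>
          mem_cent1.2 (congrArg Subtype.val (mem_cent1.1 x.2)))
        fun a b h => Subtype.ext (Subtype.ext (congrArg Subtype.val h :))) nc
  have cN := H12.card_PSL2 (F := F) rfl
  rw [← Nat.card_congr f.toEquiv] at cN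
  have q8 : Fintype.card F = 8 := by
    rcases hF8 with ⟨a, -⟩ | ⟨n, a, b⟩
    · exfalso
      obtain ⟨c, hc⟩ := d8
      rw [Nat.gcd_eq_left (by omega), hc] at cN
      generalize Fintype.card F = q at cN a
      have : (q * (q ^ 2 - 1)) % 16 = 8 := by
        have p : 1 ≤ q ^ 2 := Nat.one_le_pow _ _ (by omega)
        have : q ^ 2 % 16 = 9 := by
          have : q % 16 = 3 ∨ q % 16 = 11 ∨ q % 16 = 5 ∨ q % 16 = 13 := by omega
          rcases this with e | e | e | e <;> rw [Nat.pow_mod, e]
        have e2 : (q ^ 2 - 1) % 16 = 8 := by omega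
        have : q % 16 = 3 ∨ q % 16 = 11 ∨ q % 16 = 5 ∨ q % 16 = 13 := by omega
        rcases this with e | e | e | e <;> rw [Nat.mul_mod, e, e2]
      omega
    · have o : Odd ((2 ^ n) ^ 2 - 1) := Nat.Even.sub_odd (Nat.one_le_pow _ _ (by positivity))
        (by simp [Nat.even_pow]; omega) odd_one
      have g : Nat.gcd 2 (2 ^ n - 1) = 1 := Nat.coprime_two_left.2
        (Nat.Even.sub_odd (Nat.one_le_two_pow) (by simp [Nat.even_pow]; omega) odd_one)
      rw [b, g, one_mul] at cN
      rw [cN] at d8 n16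
      have : n = 3 := by
        by_contra c
        rcases Nat.lt_or_gt_of_ne c with c | c
        · obtain rfl : n = 2 := by omega
          norm_num at d8
        · exact n16 ((Nat.pow_dvd_pow 2 (show 4 ≤ n from c)).mul_right _)
      rw [b, this]; rfl
  rw [q8] at cN
  have cA := S0813.result (F := F) 2 3 (by omega) q8 2 le_rfl (by omega)
  rw [H12.card_PGL2 q8] at cA
  have inj : Function.Injective ((MulAut.congr f).toMonoidHom.comp (MulAut.conjNormal (H := N))) := by
    rw [MonoidHom.coe_comp]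
    refine (MulAut.congr f).injective.comp ((injective_iff_map_eq_one _).2 fun g a => ?_)
    rw [← mem_bot, ← hc]
    intro x hx
    have := congrArg (fun φ : MulAut N => (φ ⟨x, hx⟩ : G)) a
    exact (mul_inv_eq_iff_eq_mul.1 this).symm
  refine ⟨F, inferInstance, inferInstance, q8,
    ⟨MulEquiv.ofBijective _ ((Nat.bijective_iff_injective_and_card _).2 ⟨inj, ?_⟩)⟩⟩
  have d := card_dvd_of_injective _ inj
  have c := N.card_mul_index
  have n1 : N.index ≠ 1 := fun a => by
    obtain rfl := index_eq_one.1 a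
    obtain ⟨m, hm⟩ := M4_three
    obtain ⟨y, rfl⟩ := e.surjective m
    have := (BT.of_psl (n := 3) q8 f) t trivial ht y trivial (mem_cent1.1 y.2)
    exact hm (by rw [← map_mul, map_eq_one_iff _ e.injective]; exact Subtype.ext this)
  rw [cA, ← c] at d ⊢
  have : N.index ∣ 3 := Nat.dvd_of_mul_dvd_mul_left (k := 504) (by omega)
    (by rw [show Nat.card N = 504 by norm_num at cN; omega] at d; simpa using d)
  rw [(Nat.dvd_prime Nat.prime_three).1 this |>.resolve_left n1]
  norm_num at cN ⊢
  omega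

end Cfsg.Agent.WA
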