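import Cfsg.Agent.WA.Sm0
import Cfsg.Agent.GW.AltAut

/-! Weak closure `2 × A₅`: local analysis. -/

set_option autoImplicit false
set_option linter.unusedSectionVars false
set_option linter.style.haveILetI false

namespace Cfsg.Agent.WA

open Subgroup Cfsg.Agent.H11 Cfsg.Agent.JR Equiv

def cs (σ : Perm (Fin 5)) (m : M5) : M5 := (m.1, MulAut.conjNormal σ m.2)

theorem cs_eq {σ : Perm (Fin 5)} {w : M5} (h : w.2.1 = σ) (m : M5) : cs σ m = w * m * w⁻¹ :=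
  Prod.ext (by simp [cs]) (Subtype.ext (by simp [cs, h]))

theorem aut_M5 (f : M5 ≃* M5) : ∃ σ, ∀ m, f m = cs σ m := by
  have z : f zM = zM := by
    refine (M5_center _ ?_ ?_).resolve_left fun e => M5_rel.2.2.2.2.2.2.1 (by simpa using e)
    · rw [← f.apply_symm_apply rM, ← map_mul, ← zM_comm, map_mul]
    · rw [mul_assoc, ← f.apply_symm_apply (vM * aM), ← map_mul, ← zM_comm, map_mul]
  have k : ∀ x : A5, (f (1, x)).1 = 1 := by
    have p : commutator A5 = ⊤ := GW.perfect_of_simple fun c =>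
      absurd (c.1.1 r5 a5) (by decide +kernel)
    intro x
    exact Abelianization.commutator_subset_ker
      ((MonoidHom.fst _ _).comp (f.toMonoidHom.comp (MonoidHom.inr _ _))) (p ▸ mem_top x)
  let g : A5 →* A5 := (MonoidHom.snd _ _).comp (f.toMonoidHom.comp (MonoidHom.inr _ _))
  have gi : Function.Injective g := (injective_iff_map_eq_one g).2 fun x e =>
    congrArg Prod.snd (f.map_eq_one_iff.1 (Prod.ext (k x) e))
  obtain ⟨σ, hσ⟩ := GW.exists_conj_of_aut (by simp) (by simp)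
    (MulEquiv.ofBijective g (Finite.injective_iff_bijective.1 gi))
  refine ⟨σ, fun ⟨i, x⟩ => ?_⟩
  have e : f (1, x) = cs σ (1, x) := Prod.ext (k x) (Subtype.ext (hσ x))
  have : ∀ i : Z2, i = 1 ∨ i = zM.1 := by decide
  rcases this i with rfl | rfl
  · exact e
  · rw [show ((zM.1, x) : M5) = zM * (1, x) from Prod.ext (by simp) (by simp [zM]), map_mul, z, e]
    exact Prod.ext (by simp [cs]) (by simp [cs, zM])

def bM : M5 := rM * aM * rM⁻¹

instance : DecidablePred (· ∈ S5) := fun m => inferInstanceAs (Decidable (m.2.1 4 = 4 ∧ m * m = 1))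

theorem d_inn : ∀ σ, cs σ aM = aM → cs σ bM = bM → ∃ w, w ∈ S5 ∧ w.2.1 = σ := by decide +kernel

theorem d_tri : ∀ σ, cs σ aM ∈ S5 → cs σ bM ∈ S5 →
    (cs σ (cs σ (cs σ aM)) = aM ∧ cs σ (cs σ (cs σ bM)) = bM) ∨
      ∃ x, x ∈ S5 ∧ cs σ x * x ≠ 1 ∧ cs σ (cs σ x * x) = cs σ x * x := by decide +kernel

theorem d_gen : ∀ m, m ∈ S5 → ∃ i j k : Fin 2, m = zM ^ (i : ℕ) * aM ^ (j : ℕ) * bM ^ (k : ℕ) := by
  decide +kernel

theorem d_cls : ∀ m : M5, m * m = 1 → m = 1 ∨ m = zM ∨ (m.1 = 1 ∧ ∃ g, m = g * aM * g⁻¹) ∨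
    (m.1 ≠ 1 ∧ ∃ g, m = g * (zM * aM) * g⁻¹) := by decide +kernel

theorem d_c1 : Nat.card {m : M5 // m ∈ S5 ∧ m.1 ≠ 1} = 4 := by
  rw [Nat.card_eq_fintype_card]; decide +kernel

theorem d_c2 : Nat.card {m : M5 // m ∈ S5 ∧ (m = zM ∨ (m.1 = 1 ∧ m ≠ 1))} = 4 := by
  rw [Nat.card_eq_fintype_card]; decide +kernel

theorem d_misc : aM ≠ 1 ∧ aM ≠ zM ∧ zM.1 ≠ 1 ∧ (∃ x y : M5, aM = x * y * x⁻¹ * y⁻¹) ∧
    (∀ u, u ∈ S5 → ∃ a, a ∈ S5 ∧ a ≠ 1 ∧ a * u ≠ 1) ∧ rM ∈ N5 ∧ ∀ i : Z2, i * i = 1 := by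
  refine ⟨by decide, by decide, by decide, by decide +kernel, by decide +kernel, rfl, by decide⟩

theorem S5_le {K : Subgroup M5} (h1 : zM ∈ K) (h2 : aM ∈ K) (h3 : bM ∈ K) : S5 ≤ K := fun m hm => by
  obtain ⟨i, j, k, rfl⟩ := d_gen m hm
  exact mul_mem (mul_mem (pow_mem h1 _) (pow_mem h2 _)) (pow_mem h3 _)

variable {G : Type*} [Group G] [Finite G]

/-- weak closure of `u` in its centralizer -/
def Wc (u : G) : Subgroup G := closure {x | IsConj u x ∧ x * u = u * x}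

theorem cj_Wc (g u : G) : cj g (Wc u) = Wc (g * u * g⁻¹) := by
  have k : ∀ g u : G, cj g (Wc u) ≤ Wc (g * u * g⁻¹) := fun g u => by
    rw [Wc, cj_closure]
    refine closure_mono ?_
    rintro _ ⟨x, ⟨h1, h2⟩, rfl⟩
    refine ⟨((isConj_iff.2 ⟨g, rfl⟩).symm.trans h1).trans (isConj_iff.2 ⟨g, rfl⟩), ?_⟩
    calc _ = g * (x * u) * g⁻¹ := by group
      _ = _ := by rw [h2]; group
  refine le_antisymm (k g u) ?_
  rw [← cj_le_cj_iff g⁻¹, cj_inv_cj]
  simpa [mul_assoc] using k g⁻¹ (g * u * g⁻¹)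

theorem Wc_le (u : G) : Wc u ≤ centralizer {u} := (closure_le _).2 fun _ h => mem_cent1.2 h.2

structure A5At (u : G) (T : Subgroup G) (ψ : M5 →* G) : Prop where
  inj : Function.Injective ψ
  range : ψ.range = Wc u
  z : ψ zM = u
  eqT : S5.map ψ = T

namespace A5At
variable {u : G} {T : Subgroup G} {ψ : M5 →* G} (h : A5At u T ψ)
include h

theorem mem (m : M5) : ψ m ∈ Wc u := h.range ▸ ⟨m, rfl⟩
theorem ex {x : G} (hx : x ∈ Wc u) : ∃ m, ψ m = x := by rwa [← h.range] at hx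
theorem memT {m : M5} : ψ m ∈ T ↔ m ∈ S5 := h.eqT ▸ mem_map_iff_mem h.inj
theorem exT {x : G} (hx : x ∈ T) : ∃ m ∈ S5, ψ m = x := by rwa [← h.eqT] at hx
theorem T_le : T ≤ Wc u := h.eqT ▸ h.range ▸ map_le_range _ _
theorem uT : u ∈ T := h.z ▸ h.memT.2 zM_mem
theorem ne {m : M5} (hm : m ≠ 1) : ψ m ≠ 1 := fun e => hm (h.inj (e.trans (map_one ψ).symm))
theorem u1 : u ≠ 1 := h.z ▸ h.ne M5_rel.2.2.2.2.2.2.1
theorem sq {x : G} (hx : x ∈ T) : x * x = 1 := by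
  obtain ⟨m, hm, rfl⟩ := h.exT hx
  rw [← map_mul, hm.2, map_one]
theorem comm {x y : G} (hx : x ∈ T) (hy : y ∈ T) : x * y = y * x :=
  comm_of_sq (fun _ a => h.sq a) hx hy
theorem ord : orderOf u = 2 := orderOf_two_of h.u1 (h.sq h.uT)
theorem cardT : Nat.card T = 8 := by rw [← h.eqT, card_map_of_injective h.inj, card_S5]
theorem cardW : Nat.card (Wc u) = 120 := by
  rw [← h.range, ← Nat.card_congr (MonoidHom.ofInjective h.inj).toEquiv, card_M5]
theorem syl : IsSylIn 2 T (Wc u) :=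
  isSylIn_of_card h.T_le (IsPGroup.of_card (n := 3) h.cardT) (m := 15) (by rw [h.cardW, h.cardT])
    (by omega)

theorem conj (n : G) : A5At (n * u * n⁻¹) (cj n T) ((MulAut.conj n).toMonoidHom.comp ψ) :=
  ⟨(MulAut.conj n).injective.comp h.inj, by rw [MonoidHom.range_comp, h.range, ← cj_Wc],
    by simp [h.z], by rw [← map_map, h.eqT]⟩

theorem aut {c : G} (hc : c * u = u * c) : ∃ σ, ∀ m, c * ψ m * c⁻¹ = ψ (cs σ m) := by
  have n : c ∈ normalizer (ψ.range : Set G) := by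
    rw [h.range, ← cj_eq_iff, cj_Wc, hc, mul_inv_cancel_right]
  let e := MonoidHom.ofInjective h.inj
  obtain ⟨σ, hσ⟩ := aut_M5 ((e.trans (ψ.range.normalizerMonoidHom ⟨c, n⟩)).trans e.symm)
  refine ⟨σ, fun m => ?_⟩
  rw [← hσ]
  exact (congrArg Subtype.val (e.apply_symm_apply (ψ.range.normalizerMonoidHom ⟨c, n⟩ (e m)))).symm

theorem cent_of {c : G} {w : M5} (e : ∀ m, c * ψ m * c⁻¹ = ψ (w * m * w⁻¹)) :
    (ψ w)⁻¹ * c ∈ centralizer (Wc u : Set G) := fun x hx => by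
  obtain ⟨m, rfl⟩ := h.ex hx
  have := e m
  rw [map_mul, map_mul, map_inv] at this
  calc _ = (ψ w)⁻¹ * (ψ w * ψ m * (ψ w)⁻¹) * c := by group
    _ = _ := by rw [← this]; group

theorem inn {y : G} (hy : y ∈ centralizer (T : Set G)) :
    ∃ v ∈ T, v⁻¹ * y ∈ centralizer (Wc u : Set G) := by
  obtain ⟨σ, hσ⟩ := h.aut (hy u h.uT).symm
  have k : ∀ m ∈ S5, cs σ m = m := fun m hm => h.inj (by
    rw [← hσ, ← hy _ (h.memT.2 hm), mul_inv_cancel_right])
  obtain ⟨w, hw, e⟩ := d_inn σ (k _ aM_mem) (k _ bM_mem)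
  exact ⟨_, h.memT.2 hw, h.cent_of fun m => by rw [hσ, cs_eq e]⟩

theorem sq_inn {c : G} (hc : c * u = u * c) :
    c * c ∈ Wc u ⊔ centralizer (Wc u : Set G) := by
  obtain ⟨σ, hσ⟩ := h.aut hc
  have := h.cent_of (c := c * c) (w := (1, ⟨σ * σ, by simp⟩)) fun m => by
    rw [← cs_eq (σ := σ * σ) rfl, show cs (σ * σ) m = cs σ (cs σ m) by simp [cs], ← hσ, ← hσ]
    group
  rw [← mul_inv_cancel_left (ψ _) (c * c)]
  exact mul_mem (mem_sup_left (h.mem _)) (mem_sup_right this)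

theorem comm_ne {c x : G} (hc : c * u = u * c) (hx : x ∈ Wc u) : c * x * c⁻¹ * x ≠ u := fun e => by
  obtain ⟨σ, hσ⟩ := h.aut hc
  obtain ⟨m, rfl⟩ := h.ex hx
  rw [hσ, ← map_mul, ← h.z] at e
  exact d_misc.2.2.1 ((congrArg Prod.fst (h.inj e)).symm.trans (d_misc.2.2.2.2.2.2 _))

theorem cent_of_gens {c : G} (h1 : c * u = u * c) (h2 : c * ψ aM * c⁻¹ = ψ aM)
    (h3 : c * ψ bM * c⁻¹ = ψ bM) : c ∈ centralizer (T : Set G) := fun x hx => by
  obtain ⟨m, hm, rfl⟩ := h.exT hx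
  exact mem_cent1.1 (S5_le (K := (centralizer {c}).comap ψ)
    (mem_cent1.2 (by rw [h.z, h1])) (mem_cent1.2 (mul_inv_eq_iff_eq_mul.1 h2).symm)
    (mem_cent1.2 (mul_inv_eq_iff_eq_mul.1 h3).symm) hm)

theorem tri {c : G} (hc : c * u = u * c) (hn : c ∈ normalizer (T : Set G)) :
    c ^ 3 ∈ centralizer (T : Set G) ∨ ∃ x ∈ T, c * x * c⁻¹ * x ≠ 1 ∧
      c * (c * x * c⁻¹ * x) = c * x * c⁻¹ * x * c := by
  obtain ⟨σ, hσ⟩ := h.aut hc
  have k : ∀ m ∈ S5, cs σ m ∈ S5 := fun m hm =>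
    h.memT.1 (hσ m ▸ conj_mem_of_mem_normalizer hn (h.memT.2 hm))
  have k3 : ∀ m, c ^ 3 * ψ m * (c ^ 3)⁻¹ = ψ (cs σ (cs σ (cs σ m))) := fun m => by
    rw [← hσ, ← hσ, ← hσ, show c ^ 3 = c * c * c by simp [pow_succ]]
    simp only [mul_inv_rev, mul_assoc]
  rcases d_tri σ (k _ aM_mem) (k _ bM_mem) with ⟨a, b⟩ | ⟨x, hx, a, b⟩
  · exact .inl (h.cent_of_gens ((Commute.pow_left hc 3).eq) (by rw [k3, a]) (by rw [k3, b]))
  · refine .inr ⟨_, h.memT.2 hx, ?_, ?_⟩ <;> rw [hσ, ← map_mul]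
    · exact h.ne a
    · rw [← mul_inv_eq_iff_eq_mul, hσ, b]

theorem inf_cent {x : G} (h1 : x ∈ Wc u) (h2 : x ∈ centralizer (Wc u : Set G)) : x = 1 ∨ x = u := by
  obtain ⟨m, rfl⟩ := h.ex h1
  have k : ∀ y, m * y = y * m := fun y => h.inj (by rw [map_mul, map_mul, h2 _ (h.mem y)])
  exact (M5_center m (k _) (by rw [mul_assoc, k])).imp (fun e => by rw [e, map_one])
    fun e => by rw [e, h.z]

theorem cent_r {v : G} (hv : v ∈ T) (e : v * ψ rM = ψ rM * v) : v ∈ centralizer (Wc u : Set G) := by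
  obtain ⟨m, hm, rfl⟩ := h.exT hv
  rcases M5_cent_r m (h.inj (by rw [map_mul, map_mul, e])) hm.2 with rfl | rfl
  · rw [map_one]; exact one_mem _
  · exact fun x hx => h.z ▸ mem_cent1.1 (Wc_le u hx)

theorem r_norm : ψ rM ∈ normalizer (T : Set G) := mem_normalizer_of_forall fun x hx => by
  obtain ⟨m, hm, rfl⟩ := h.exT hx
  rw [← map_inv, ← map_mul, ← map_mul]
  exact h.memT.2 (N5_norm d_misc.2.2.2.2.2.1 hm)

theorem cj_iff (g m : M5) : IsConj u (ψ (g * m * g⁻¹)) ↔ IsConj u (ψ m) :=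
  have := ψ.map_isConj (isConj_iff.2 ⟨g, rfl⟩ : IsConj m (g * m * g⁻¹))
  ⟨fun a => a.trans this.symm, fun a => a.trans this⟩

theorem or : IsConj u (ψ aM) ∨ IsConj u (ψ (zM * aM)) := by
  by_contra! c
  have : Wc u ≤ zpowers u := (closure_le _).2 fun x hx => by
    obtain ⟨m, rfl⟩ := h.ex (subset_closure hx)
    have : m * m = 1 := h.inj (by
      obtain ⟨g, e⟩ := isConj_iff.1 hx.1
      rw [map_mul, map_one, ← e]
      exact mul_self_of_orderOf_two ((orderOf_conj g u).trans h.ord))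
    rcases d_cls m this with rfl | rfl | ⟨-, g, rfl⟩ | ⟨-, g, rfl⟩
    · rw [map_one]; exact one_mem _
    · rw [h.z]; exact mem_zpowers u
    · exact absurd ((h.cj_iff _ _).1 hx.1) c.1
    · exact absurd ((h.cj_iff _ _).1 hx.1) c.2
  have := card_le_of_le this
  rw [h.cardW, Nat.card_zpowers, h.ord] at this
  omega

end A5At

structure WS (t : G) (S : Sylow 2 G) (T : Subgroup G) (ψ : M5 →* G) : Prop extends A5At t T ψ where
  TS : T ≤ S
  SC : (S : Subgroup G) ≤ centralizer {t}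

theorem exists_WS {t : G} (ht : IsTwoCentralInvolution t) (e : Wc t ≃* M5) :
    ∃ S T ψ, WS t S T ψ := by
  obtain ⟨h2, P, -, hP⟩ := ht
  have tW : t ∈ Wc t := subset_closure ⟨IsConj.refl t, rfl⟩
  have k : ∀ m, e ⟨t, tW⟩ * m = m * e ⟨t, tW⟩ := fun m => by
    obtain ⟨x, rfl⟩ := e.surjective m
    rw [← map_mul, ← map_mul]
    exact congrArg e (Subtype.ext (mem_cent1.1 (Wc_le t x.2)).symm)
  have z := (M5_center _ (k _) (by rw [mul_assoc, k])).resolve_left fun a =>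
    ne_one_of_orderOf_two h2 (congrArg Subtype.val (e.map_eq_one_iff.1 a))
  have h : A5At t _ ((Wc t).subtype.comp e.symm.toMonoidHom) :=
    ⟨Subtype.val_injective.comp e.symm.injective, by
      rw [MonoidHom.range_comp, MonoidHom.range_eq_top.2 e.symm.surjective, ← MonoidHom.range_eq_map,
        range_subtype], by simp [← z], rfl⟩
  obtain ⟨g, hg, le⟩ := (isSylIn_of_sylow_le P fun x hx => mem_cent1.2 (hP x hx)).exists_cj_le
    h.syl.pg (h.T_le.trans (Wc_le t))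
  obtain ⟨S, hS⟩ := (((isSylIn_top P).cj g⁻¹).of_le le_top (cj_top g⁻¹).ge).exists_sylow_top
  refine ⟨S, _, _, h, hS ▸ cj_le_iff'.1 le, hS ▸ ?_⟩
  rw [← cj_eq_of_mem (inv_mem hg)]
  exact cj_mono _ fun x hx => mem_cent1.2 (hP x hx)

namespace WS
variable {t : G} {S : Sylow 2 G} {T : Subgroup G} {ψ : M5 →* G} (h : WS t S T ψ)
include h

theorem cl {x : G} (hx : x ∈ (S : Subgroup G)) (c : IsConj t x) : x ∈ T :=
  (h.syl.eq (S.2.to_le inf_le_left) (le_inf h.TS h.T_le) inf_le_right).le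
    ⟨hx, subset_closure ⟨c, mem_cent1.1 (h.SC hx)⟩⟩

theorem wcl {g : G} (hg : cj g T ≤ S) : g ∈ normalizer (T : Set G) := by
  refine mem_normalizer_of_forall fun x hx => ?_
  obtain ⟨m, hm, rfl⟩ := h.exT hx
  have k : ∀ m ∈ S5, IsConj t (ψ m) → m ∈ (cj g⁻¹ T).comap ψ := fun m a b => by
    have := h.cl (cj_le_iff.1 hg _ (h.memT.2 a)) (b.trans (isConj_iff.2 ⟨g, rfl⟩))
    exact mem_cj.2 (by rwa [inv_inv])
  have z := k _ zM_mem (h.z ▸ IsConj.refl t)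
  have : S5 ≤ (cj g⁻¹ T).comap ψ := by
    rcases h.or with a | a
    · exact S5_le z (k _ aM_mem a) (k _ bM_mem ((h.cj_iff _ _).2 a))
    · have e : zM * bM = rM * (zM * aM) * rM⁻¹ := by decide +kernel
      exact S5_le z ((mul_mem_cancel_left z).1 (k _ (mul_mem zM_mem aM_mem) a))
        ((mul_mem_cancel_left z).1 (k _ (mul_mem zM_mem bM_mem) (by rw [e]; exact (h.cj_iff _ _).2 a)))
  have := mem_cj.1 (this hm)
  rwa [inv_inv] at this

theorem S_norm : (S : Subgroup G) ≤ normalizer (T : Set G) := fun _ hs =>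
  h.wcl ((cj_mono _ h.TS).trans (cj_eq_of_mem hs).le)

theorem fus0 {x : G} (hx : x ∈ T) (c : IsConj t x) :
    ∃ n ∈ normalizer (T : Set G), n * t * n⁻¹ = x := by
  obtain ⟨g, rfl⟩ := isConj_iff.1 c
  have := (isSylIn_of_sylow_le S h.SC).cj g
  rw [cj_cent1] at this
  obtain ⟨k, hk, le⟩ := this.exists_cj_le h.syl.pg fun y hy => mem_cent1.2 (h.comm hy hx)
  refine ⟨_, inv_mem (h.wcl (g := g⁻¹ * k) (by rw [cj_mul, cj_le_iff', inv_inv]; exact le)), ?_⟩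
  calc _ = k⁻¹ * (g * t * g⁻¹ * k) := by group
    _ = _ := by rw [← mem_cent1.1 hk]; group

theorem odd {q : M5 → Prop} (hq : ∀ m ∈ S5, q m ↔ IsConj t (ψ m)) :
    Odd (Nat.card {m // m ∈ S5 ∧ q m}) := by
  have tN : t ∈ normalizer (T : Set G) := le_normalizer h.uT
  have e := H12.card_isConj_eq_index (⟨t, tN⟩ : normalizer (T : Set G))
  rw [Nat.card_congr (Equiv.ofBijective (α := {m // m ∈ S5 ∧ q m}) (β := {y // IsConj (⟨t, tN⟩ : normalizer (T : Set G)) y})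
    (fun m => ⟨⟨ψ m.1, le_normalizer (h.memT.2 m.2.1)⟩, by
      obtain ⟨n, hn, e⟩ := h.fus0 (h.memT.2 m.2.1) ((hq _ m.2.1).1 m.2.2)
      exact isConj_iff.2 ⟨⟨n, hn⟩, Subtype.ext e⟩⟩) ⟨fun a b e =>
      Subtype.ext (h.inj (congrArg (fun x => (x.1 : G)) e)), fun ⟨y, hy⟩ => by
      obtain ⟨n, rfl⟩ := isConj_iff.1 hy
      obtain ⟨m, hm, e⟩ := h.exT (conj_mem_of_mem_normalizer n.2 h.uT)
      exact ⟨⟨m, hm, (hq m hm).2 (e ▸ isConj_iff.2 ⟨n, rfl⟩)⟩, Subtype.ext (Subtype.ext e)⟩⟩), e]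
  refine Nat.odd_iff.2 (Nat.two_dvd_ne_zero.1 fun a => (S.subtype h.S_norm).not_dvd_index
    (a.trans (index_dvd_of_le fun x hx => mem_cent1.2 (Subtype.ext (mem_cent1.1 (h.SC hx))))))

theorem all {x : G} (hx : x ∈ T) (h1 : x ≠ 1) : IsConj t x := by
  have n1 : ¬ IsConj t (ψ 1) := fun a => h.u1 (by simpa using a)
  have z : IsConj t (ψ zM) := h.z ▸ IsConj.refl t
  have : IsConj t (ψ aM) ∧ IsConj t (ψ (zM * aM)) := by
    by_contra c
    rcases h.or with a | a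
    · have := h.odd (q := fun m => m = zM ∨ (m.1 = 1 ∧ m ≠ 1)) fun m hm => by
        rcases d_cls m hm.2 with rfl | rfl | ⟨b, g, rfl⟩ | ⟨b, g, rfl⟩
        · simpa [n1, h.u1] using M5_rel.2.2.2.2.2.2.1.symm
        · simpa using z
        · exact iff_of_true (.inr ⟨b, by simpa using d_misc.1⟩) ((h.cj_iff _ _).2 a)
        · refine iff_of_false (fun e => e.elim (fun e => ?_) fun e => b e.1)
            fun e => c ⟨a, (h.cj_iff _ _).1 e⟩
          rw [mul_inv_eq_iff_eq_mul, ← zM_comm g] at e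
          exact d_misc.1 (by simpa using e)
      rw [d_c2] at this
      exact absurd this (by decide)
    · have := h.odd (q := fun m => m.1 ≠ 1) fun m hm => by
        rcases d_cls m hm.2 with rfl | rfl | ⟨b, g, rfl⟩ | ⟨b, g, rfl⟩
        · simpa using h.u1
        · exact iff_of_true d_misc.2.2.1 z
        · exact iff_of_false (fun e => e b) fun e => c ⟨(h.cj_iff _ _).1 e, a⟩
        · exact iff_of_true b ((h.cj_iff _ _).2 a)
      rw [d_c1] at this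
      exact absurd this (by decide)
  obtain ⟨m, hm, rfl⟩ := h.exT hx
  rcases d_cls m hm.2 with rfl | rfl | ⟨-, g, rfl⟩ | ⟨-, g, rfl⟩
  exacts [absurd (map_one ψ) h1, z, (h.cj_iff _ _).2 this.1, (h.cj_iff _ _).2 this.2]

theorem fus {x : G} (hx : x ∈ T) (h1 : x ≠ 1) : ∃ n ∈ normalizer (T : Set G), n * t * n⁻¹ = x :=
  h.fus0 hx (h.all hx h1)

theorem loc {x : G} (hx : x ∈ T) (h1 : x ≠ 1) : ∃ φ, A5At x T φ := by
  obtain ⟨n, hn, rfl⟩ := h.fus hx h1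
  exact ⟨_, cj_eq_iff.2 hn ▸ h.toA5At.conj n⟩

theorem SY : (S : Subgroup G) ≤ centralizer (T : Set G) := fun s hs => by
  have n := h.S_norm hs
  rcases h.tri (mem_cent1.1 (h.SC hs)) n with a | ⟨x, hx, a, b⟩
  · obtain ⟨k, hk⟩ := S.2 ⟨s, hs⟩
    have : (3 : ℕ).Coprime (orderOf s) := (Nat.Coprime.pow_right k (by norm_num)).coprime_dvd_right
      (orderOf_dvd_of_pow_eq_one (congrArg Subtype.val hk))
    obtain ⟨m, hm⟩ := exists_pow_eq_self_of_coprime this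
    exact hm ▸ pow_mem a m
  · obtain ⟨φ, k⟩ := h.loc (mul_mem (conj_mem_of_mem_normalizer n hx) hx) a
    exact absurd rfl (k.comm_ne b (k.T_le hx))

theorem two_le {P : Subgroup G} (hP : IsPGroup 2 P) (hT : T ≤ P) : P ≤ centralizer (T : Set G) := by
  obtain ⟨g, -, le⟩ := (isSylIn_top S).exists_cj_le hP le_top
  have := cj_eq_iff.2 (h.wcl ((cj_mono g hT).trans le))
  rw [← cj_le_cj_iff g, cj_centralizer, this]
  exact le.trans h.SY

theorem comm2 {x : G} (c : IsConj t x) {k : ℕ} (e : (x * t) ^ 2 ^ k = 1) : x * t = t * x := by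
  obtain ⟨a, rfl⟩ := isConj_iff.1 c
  obtain ⟨g, -, le⟩ := (isSylIn_top S).exists_cj_le (isPGroup_closure_pair
    (mul_self_of_orderOf_two ((orderOf_conj a t).trans h.ord)) (h.sq h.uT) e) le_top
  have := h.comm (h.cl (cj_le_iff.1 le _ (subset_closure (.inl rfl)))
    (c.trans (isConj_iff.2 ⟨g, rfl⟩))) (h.cl (cj_le_iff.1 le _ (subset_closure (.inr rfl)))
    (isConj_iff.2 ⟨g, rfl⟩))
  calc _ = g⁻¹ * (g * (a * t * a⁻¹) * g⁻¹ * (g * t * g⁻¹)) * g := by group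
    _ = _ := by rw [this]; group

end WS

end Cfsg.Agent.WA
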