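import Cfsg.Agent.WA.Sm3
import Cfsg.Agent.H3.Fusion

/-! Weak closure `2 × A₅`: the subgroup `J₁`. -/

set_option autoImplicit false
set_option linter.unusedSectionVars false
set_option linter.style.haveILetI false

namespace Cfsg.Agent.WA

open Subgroup Cfsg.Agent.H11 Cfsg.Agent.JR
open scoped commutatorElement

universe u
variable {G : Type u} [Group G] [Finite G]

def N0 (t : G) (T : Subgroup G) : Subgroup G :=
  closure {x | IsConj t x ∧ ∃ a ∈ T, a ≠ 1 ∧ x * a = a * x}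

theorem mem_sup_comm {A B : Subgroup G} (hn : A ≤ normalizer (B : Set G)) {y : G} (hy : y ∈ A ⊔ B) :
    ∃ a ∈ A, a⁻¹ * y ∈ B := by
  rw [← SetLike.mem_coe, coe_mul_of_left_le_normalizer_right _ _ hn] at hy
  obtain ⟨a, ha, b, hb, rfl⟩ := hy
  exact ⟨a, ha, by simpa using hb⟩

theorem mem_of_sq {K : Subgroup G} {x : G} (ho : Odd (orderOf x)) (h : ∀ k : ℕ, x ^ k * x ^ k ∈ K) :
    x ∈ K := by
  obtain ⟨k, hk⟩ := ho
  have := h (k + 1)
  rwa [← pow_add, show k + 1 + (k + 1) = orderOf x + 1 by omega, pow_succ, pow_orderOf_eq_one,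
    one_mul] at this

namespace WS
variable {t : G} {S : Sylow 2 G} {T : Subgroup G} {ψ : M5 →* G} (h : WS t S T ψ)
include h

local notation "N" => N0 t T
local notation "X" => centralizer (N0 t T : Set G)
local notation "M" => normalizer (N0 t T : Set G)
local notation "Y" => centralizer (T : Set G)

theorem W_le {a : G} (ha : a ∈ T) (h1 : a ≠ 1) : Wc a ≤ N :=
  closure_mono fun _ hx => ⟨(h.all ha h1).trans hx.1, a, ha, h1, hx.2⟩

theorem gen_mem {x a : G} (c : IsConj t x) (ha : a ∈ T) (h1 : a ≠ 1) (e : x * a = a * x) :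
    x ∈ Wc a := subset_closure ⟨(h.all ha h1).symm.trans c, e⟩

theorem TN : T ≤ N := h.T_le.trans (h.W_le h.uT h.u1)

theorem XY : X ≤ Y := centralizer_le h.TN

theorem memX {y : G} (hy : ∀ a ∈ T, a ≠ 1 → y ∈ centralizer (Wc a : Set G)) : y ∈ X :=
  fun _ hx => mem_cent1.1 (((closure_le (centralizer {y})).2
    (fun x ⟨c, a, ha, h1, e⟩ => mem_cent1.2 (hy a ha h1 x (h.gen_mem c ha h1 e))) :
      N ≤ centralizer {y}) hx)

theorem normT : normalizer (T : Set G) ≤ M := fun n hn => mem_normalizer_of_cj_le (by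
  rw [N0, cj_closure]
  refine closure_mono ?_
  rintro _ ⟨x, ⟨c, a, ha, h1, e⟩, rfl⟩
  refine ⟨c.trans (isConj_iff.2 ⟨n, rfl⟩), _, conj_mem_of_mem_normalizer hn ha, by simpa using h1, ?_⟩
  calc _ = n * (x * a) * n⁻¹ := by group
    _ = _ := by rw [e]; group)

theorem XM : X ≤ M := centralizer_le_normalizer _

theorem SM : (S : Subgroup G) ≤ M := h.S_norm.trans h.normT

theorem normX : M ≤ normalizer ((X : Subgroup G) : Set G) := H10.normalizer_le_normalizer_centralizer _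

theorem sqX {y : G} (hy : y ∈ Y) : y * y ∈ X := h.memX fun a ha h1 => by
  obtain ⟨φ, k⟩ := h.loc ha h1
  obtain ⟨v, hv, e⟩ := k.inn hy
  have := mul_mem e e
  rwa [mul_assoc, ← mul_assoc y, ← hy _ (inv_mem hv), ← mul_assoc, ← mul_assoc,
    k.sq (inv_mem hv), one_mul] at this

theorem commX {a b : G} (ha : a ∈ Y) (hb : b ∈ Y) : a * b * a⁻¹ * b⁻¹ ∈ X := by
  have := mul_mem (mul_mem (h.sqX ha) (h.sqX (mul_mem (inv_mem ha) hb))) (h.sqX (inv_mem hb))
  simpa [mul_assoc] using this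

theorem WX {x : G} (h1 : x ∈ Wc t) (h2 : x ∈ X) : x = 1 := by
  refine (h.inf_cent h1 (centralizer_le (h.W_le h.uT h.u1) h2)).resolve_right fun e => ?_
  have a := h.memT.2 aM_mem
  obtain ⟨φ, k⟩ := h.loc a (h.ne d_misc.1)
  rcases k.inf_cent (k.T_le h.uT) (centralizer_le (h.W_le a (h.ne d_misc.1)) (e ▸ h2)) with b | b
  · exact h.u1 b
  · exact d_misc.2.1 (h.inj (b.symm.trans h.z.symm))

theorem STX : (S : Subgroup G) ≤ T ⊔ X := by
  let R := (T ⊔ X) ⊓ (S : Subgroup G)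
  have nR : normalizer ((S : Subgroup G) : Set G) ≤ normalizer (R : Set G) := fun n hn => by
    have a := h.wcl ((cj_mono n h.TS).trans (cj_eq_iff.2 hn).le)
    rw [← cj_eq_iff, cj_inf, cj_sup, cj_eq_iff.2 a, cj_eq_iff.2 hn, cj_eq_iff.2 (h.normX (h.normT a))]
  let K : Subgroup G :=
    { carrier := {n | n ∈ normalizer ((S : Subgroup G) : Set G) ∧
        ∀ y ∈ (S : Subgroup G), n * y * n⁻¹ * y⁻¹ ∈ R}
      mul_mem' := fun {a b} ha hb => ⟨mul_mem ha.1 hb.1, fun y hy => by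
        have := mul_mem (conj_mem_of_mem_normalizer (nR ha.1) (hb.2 y hy)) (ha.2 y hy)
        simpa [mul_assoc] using this⟩
      one_mem' := ⟨one_mem _, fun y _ => by simp⟩
      inv_mem' := fun {a} ha => ⟨inv_mem ha.1, fun y hy => by
        have := conj_mem_of_mem_normalizer' (nR ha.1) (inv_mem (ha.2 y hy))
        simpa [mul_assoc] using this⟩ }
  have SK : (S : Subgroup G) ≤ K := fun s hs => ⟨le_normalizer hs, fun y hy =>
    mem_inf.2 ⟨mem_sup_right (h.commX (h.SY hs) (h.SY hy)),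
      mul_mem (mul_mem (mul_mem hs hy) (inv_mem hs)) (inv_mem hy)⟩⟩
  have o := (isSylIn_of_sylow_le S SK).not_dvd_relIndex
  have cop : ∀ {P : Subgroup G}, P ≤ S → ((S : Subgroup G).relIndex K).Coprime (Nat.card P) :=
    fun {P} hP => by
      obtain ⟨k, hk⟩ := (S.2.to_le hP).exists_card_eq
      rw [hk]
      exact (Nat.coprime_two_right.2 (Nat.odd_iff.2 (by omega))).pow_right k
  obtain ⟨A, a1, a2, -, a4⟩ := H1.exists_complement_le SK (fun n hn => hn.1) (cop le_rfl).symm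
  intro y hy
  obtain ⟨ρ, hρ, c, hc, rfl⟩ := H1.exists_mul_centralizer_of_commutator_le (A := A) (K := S)
    (a1.trans fun n hn => nR hn.1) (a4 ▸ cop inf_le_right)
    (.inr (H1.isSolvable_of_isPGroup (S.2.to_le inf_le_right)))
    (by rw [commutator_comm]; exact commutator_le.2 fun n hn y hy => (a1 hn).2 y hy) hy
  have cS : c ∈ (S : Subgroup G) := (mul_mem_cancel_left (mem_inf.1 hρ).2).1 hy
  refine mul_mem hρ.1 (mem_sup_right (h.memX fun u hu h1 => ?_))
  obtain ⟨φ, k⟩ := h.loc hu h1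
  have e : ∀ y ∈ (S : Subgroup G), ∃ v ∈ T, v⁻¹ * y ∈ centralizer (Wc u : Set G) ∧
      φ rM * y * (φ rM)⁻¹ * y⁻¹ = φ rM * v * (φ rM)⁻¹ * v⁻¹ := fun y hy => by
    obtain ⟨v, hv, e⟩ := k.inn (h.SY hy)
    refine ⟨v, hv, e, ?_⟩
    calc _ = φ rM * v * (v⁻¹ * y * (φ rM)⁻¹) * y⁻¹ := by group
      _ = _ := by rw [← e _ (inv_mem (k.mem _))]; group
  have e2 : ∀ y ∈ (S : Subgroup G), φ rM * y * (φ rM)⁻¹ * y⁻¹ ∈ T := fun y hy => by
    obtain ⟨v, hv, -, e⟩ := e y hy
    exact e ▸ mul_mem (conj_mem_of_mem_normalizer k.r_norm hv) (inv_mem hv)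
  have rK : φ rM ∈ K := ⟨mem_normalizer_of_forall fun y hy => by
    simpa using mul_mem (h.TS (e2 y hy)) hy, fun y hy => ⟨mem_sup_left (e2 y hy), h.TS (e2 y hy)⟩⟩
  rw [← a2, sup_comm] at rK
  obtain ⟨a, ha, hs⟩ := mem_sup_comm (fun n hn => (a1 hn).1) rK
  have e3 : φ rM * c * (φ rM)⁻¹ * c⁻¹ ∈ X := by
    have := conj_mem_of_mem_normalizer (h.normX (h.normT (h.wcl ((cj_mono a h.TS).trans
      (cj_eq_iff.2 (a1 ha).1).le)))) (h.commX (h.SY hs) (h.SY cS))
    rwa [show a * (a⁻¹ * φ rM * c * (a⁻¹ * φ rM)⁻¹ * c⁻¹) * a⁻¹ =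
      φ rM * c * (φ rM)⁻¹ * (a * c⁻¹) * a⁻¹ by group, inv_mem hc a ha, mul_assoc, mul_assoc c⁻¹,
      mul_inv_cancel, mul_one] at this
  have e4 := h.WX (h.T_le (e2 c cS)) e3
  obtain ⟨v, hv, b, e⟩ := e c cS
  rw [e, mul_inv_eq_one, mul_inv_eq_iff_eq_mul] at e4
  simpa using mul_mem (k.cent_r hv e4.symm) b

theorem YTX : Y ≤ T ⊔ X := le_of_sylIn_of_odd (isSylIn_of_sylow_le S h.SY) h.STX fun _ hx ho =>
  mem_sup_right (mem_of_sq ho fun k => h.sqX (pow_mem hx k))

theorem CWX : centralizer {t} ≤ Wc t ⊔ X := by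
  have a : T ⊔ X ≤ Wc t ⊔ X := sup_le_sup_right h.T_le _
  refine le_of_sylIn_of_odd (isSylIn_of_sylow_le S h.SC) (h.STX.trans a) fun _ hx ho =>
    mem_of_sq ho fun k => ?_
  exact sup_le le_sup_left ((centralizer_le h.T_le).trans (h.YTX.trans a))
    (h.sq_inn (mem_cent1.1 (pow_mem hx k)))

theorem CM : centralizer {t} ≤ M :=
  h.CWX.trans (sup_le ((h.W_le h.uT h.u1).trans le_normalizer) h.XM)

theorem uniq {g : G} (hg : g * t * g⁻¹ ∈ M) : g ∈ M := by
  obtain ⟨m, hm, e⟩ := (isSylIn_of_sylow_le S h.SM).exists_conj_invol_mem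
    ((orderOf_conj g t).trans h.ord) hg
  have c : IsConj t (m * (g * t * g⁻¹) * m⁻¹) := isConj_iff.2 ⟨m * g, by group⟩
  obtain ⟨n, hn, e2⟩ := h.fus0 (h.cl e c) c
  have : n⁻¹ * m * g ∈ M := h.CM (mem_cent1.2 (by
    calc _ = n⁻¹ * (m * (g * t * g⁻¹) * m⁻¹) * m * g := by group
      _ = _ := by rw [← e2]; group))
  exact (mul_mem_cancel_left (mul_mem (inv_mem (h.normT hn)) hm)).1 this

theorem uniq' {g a : G} (ha : a ∈ T) (h1 : a ≠ 1) (hg : g * a * g⁻¹ ∈ M) : g ∈ M := by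
  obtain ⟨n, hn, rfl⟩ := h.fus ha h1
  exact (mul_mem_cancel_right (h.normT hn)).1 (h.uniq (by simpa [mul_assoc] using hg))

theorem quot [((X).subgroupOf M).Normal] : Spor.IsoJ1 (M ⧸ (X).subgroupOf M) := by
  set π := QuotientGroup.mk' ((X).subgroupOf M)
  have sj := QuotientGroup.mk'_surjective ((X).subgroupOf M)
  have tM := h.SM (h.TS h.uT)
  let φ : M5 →* _ := π.comp (ψ.codRestrict M fun m => h.CM (Wc_le t (h.mem m)))
  have inj : Function.Injective φ := (injective_iff_map_eq_one _).2 fun m e =>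
    h.inj ((h.WX (h.mem m) (((QuotientGroup.eq_one_iff : ∀ x : M, _ ↔ x ∈ (X).subgroupOf M) _).1 e)).trans
      (map_one ψ).symm)
  have z : φ zM = π ⟨t, tM⟩ := congrArg π (Subtype.ext h.z)
  have r : centralizer {π ⟨t, tM⟩} = φ.range := by
    refine le_antisymm (fun x hx => ?_) ?_
    · obtain ⟨g, rfl⟩ := sj x
      have a : t⁻¹ * (g * t * g⁻¹ : G) ∈ X := (QuotientGroup.eq (a := ⟨t, tM⟩)
        (b := g * ⟨t, tM⟩ * g⁻¹)).1 (by
          change π _ = π _
          rw [map_mul, map_mul, mem_cent1.1 hx, map_inv, mul_inv_cancel_right])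
      have b : (g * t * g⁻¹ : G) ∈ Wc t := subset_closure ⟨isConj_iff.2 ⟨g, rfl⟩, by
        have := h.XY a t h.uT
        rw [mul_inv_cancel_left, mul_assoc t⁻¹, eq_inv_mul_iff_mul_eq] at this
        exact this.symm⟩
      have c := h.WX (mul_mem (inv_mem (h.T_le h.uT)) b) a
      rw [inv_mul_eq_one, coe_inv, eq_mul_inv_iff_mul_eq] at c
      obtain ⟨w, hw, d⟩ := mem_sup_comm ((h.W_le h.uT h.u1).trans (le_normalizer.trans h.normX))
        (h.CWX (mem_cent1.2 c.symm))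
      obtain ⟨m, rfl⟩ := h.ex hw
      exact ⟨m, QuotientGroup.eq.2 d⟩
    · rintro _ ⟨m, rfl⟩
      rw [← z, mem_cent1, ← map_mul, zM_comm, map_mul]
  refine j1 (fun H e => ?_) ⟨by
    rw [← z, orderOf_injective φ inj]; exact orderOf_two_of M5_rel.2.2.2.2.2.2.1 (by decide),
    (S.subtype h.SM).mapSurjective sj, ⟨_, h.TS h.uT, rfl⟩, ?_⟩
    ((MulEquiv.subgroupCongr r).trans (MonoidHom.ofInjective inj).symm)
  · rw [← index_comap_of_surjective H sj] at e
    have hn := normal_of_index_eq_two e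
    have k : ∀ a : M, (a : G) ∈ T → a ≠ 1 → (a ∈ H.comap π ↔ ⟨t, tM⟩ ∈ H.comap π) := fun a b c => by
      obtain ⟨n, hn', d⟩ := h.fus b fun e => c (Subtype.ext e)
      rw [show a = ⟨n, h.normT hn'⟩ * ⟨t, tM⟩ * ⟨n, h.normT hn'⟩⁻¹ from Subtype.ext d.symm]
      exact ⟨fun a => by
        have := hn.conj_mem _ a ⟨n, h.normT hn'⟩⁻¹
        rwa [inv_inv, ← mul_assoc, ← mul_assoc, inv_mul_cancel, one_mul, inv_mul_cancel_right] at this,
        fun a => hn.conj_mem _ a _⟩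
    refine not_sylow_le_of_index_two (S.subtype h.SM) e fun s hs => ?_
    obtain ⟨v, hv, d⟩ := mem_sup_comm (h.TN.trans (le_normalizer.trans h.normX)) (h.STX hs)
    have vM := h.SM (h.TS hv)
    rw [← mul_inv_cancel_left ⟨v, vM⟩ s]
    refine mul_mem ?_ (mem_comap.2 (by
      rw [show π (⟨v, vM⟩⁻¹ * s) = 1 from (QuotientGroup.eq_one_iff _).2 d]; exact one_mem H))
    obtain ⟨m, hm, rfl⟩ := h.exT hv
    obtain ⟨a, a1, a2, a3⟩ := d_misc.2.2.2.2.1 m hm
    have b1 := h.memT.2 a1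
    have b2 := h.memT.2 (mul_mem a1 hm)
    rw [show (⟨ψ m, vM⟩ : M) = ⟨_, h.SM (h.TS b1)⟩ * ⟨_, h.SM (h.TS b2)⟩ from
      Subtype.ext (by simp [← mul_assoc, h.sq b1]), mul_mem_iff_of_index_two e,
      k ⟨_, h.SM (h.TS b1)⟩ b1 fun e => h.ne a2 (congrArg Subtype.val e),
      k ⟨_, h.SM (h.TS b2)⟩ b2 fun e => h.ne a3 (congrArg Subtype.val e)]
  · rintro _ ⟨s, hs, rfl⟩
    rw [← map_mul, ← map_mul]
    exact congrArg π (Subtype.ext (mem_cent1.1 (h.SC hs)))

theorem perfect : commutator N = ⊤ := by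
  have n : M ≤ normalizer ((⁅N, N⁆ : Subgroup G) : Set G) := fun g hg => by
    rw [← cj_eq_iff, cj, map_commutator]
    change ⁅cj g N, cj g N⁆ = _
    rw [cj_eq_iff.2 hg]
  have a : ∀ u ∈ T, u ∈ ⁅N, N⁆ := fun u hu => by
    by_cases h1 : u = 1
    · exact h1 ▸ one_mem _
    obtain ⟨x, y, e⟩ := d_misc.2.2.2.1
    obtain ⟨k, hk, d⟩ := h.fus (h.memT.2 aM_mem) (h.ne d_misc.1)
    obtain ⟨k', hk', rfl⟩ := h.fus hu h1
    refine conj_mem_of_mem_normalizer (n (h.normT hk')) ?_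
    have : ψ aM ∈ ⁅N, N⁆ := by
      rw [e, map_mul, map_mul, map_mul, map_inv, map_inv]
      exact commutator_mem_commutator (h.W_le h.uT h.u1 (h.mem x)) (h.W_le h.uT h.u1 (h.mem y))
    simpa [← d, mul_assoc] using conj_mem_of_mem_normalizer' (n (h.normT hk)) this
  have : N ≤ ⁅N, N⁆ := (closure_le _).2 fun x ⟨c, u, hu, h1, e⟩ => by
    obtain ⟨φ, k⟩ := h.loc hu h1
    obtain ⟨g, rfl⟩ := isConj_iff.1 c
    obtain ⟨w, hw, b⟩ := k.syl.exists_conj_invol_mem ((orderOf_conj g t).trans h.ord)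
      (h.gen_mem c hu h1 e)
    simpa [mul_assoc] using conj_mem_of_mem_normalizer' (n (le_normalizer (h.W_le hu h1 hw))) (a _ b)
  rw [← map_subtype_commutator] at this
  exact eq_top_iff.2 fun x _ => (mem_map_iff_mem (subtype_injective _)).1 (this x.2)

theorem iso : Spor.IsoJ1 N ∧ M ≤ N ⊔ X ∧ ∀ x ∈ N, x ∈ X → x = 1 := by
  haveI : ((X).subgroupOf M).Normal := (normal_subgroupOf_iff_le_normalizer h.XM).2 h.normX
  obtain ⟨e⟩ := h.quot
  haveI := H16.J1.simple
  haveI := e.isSimpleGroup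
  set π := QuotientGroup.mk' ((X).subgroupOf M)
  have sj := QuotientGroup.mk'_surjective ((X).subgroupOf M)
  let f : N →* _ := π.comp (inclusion le_normalizer)
  have ker : ∀ x : N, f x = 1 ↔ (x : G) ∈ X := fun x => QuotientGroup.eq_one_iff _
  have fs : Function.Surjective f := by
    have : f.range = ((N).subgroupOf M).map π := by
      rw [MonoidHom.range_comp, inclusion_range]
    rw [← MonoidHom.range_eq_top]
    refine (IsSimpleGroup.eq_bot_or_eq_top_of_normal _ (this ▸ Normal.map inferInstance _ sj)).resolve_left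
      fun a => h.u1 (h.WX (h.T_le h.uT) ((ker ⟨t, h.TN h.uT⟩).1 (mem_bot.1 (a ▸ ⟨_, rfl⟩))))
  have kc : f.ker ≤ center N := fun x hx => mem_center_iff.2 fun y =>
    Subtype.ext ((ker x).1 hx y y.2)
  have k0 : f.ker = ⊥ := by
    by_contra a
    obtain ⟨x, hx, hp⟩ := H1.exists_prime_orderOf_mem a
    haveI := Fact.mk hp
    obtain ⟨P, xP, c⟩ : ∃ P : Sylow (orderOf x) N, x ∈ (P : Subgroup N) ∧
        IsMulCommutative (P : Subgroup N) := by
      by_cases h2 : orderOf x = 2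
      · have s := (isSylIn_of_sylow_le S h.SM).inf_of_normalized le_normalizer le_rfl
        obtain ⟨P, hP⟩ := s.exists_sylow
        rw [h2]
        refine ⟨P, hP ▸ s.mem_of_commute (k := 1) (by simpa using h2) x.2 fun y hy => (ker x).1 hx y hy.2,
          ⟨⟨fun a b => Subtype.ext (Subtype.ext ?_)⟩⟩⟩
        have ha : (a : N).1 ∈ (S : Subgroup G) ⊓ N := hP.le a.2
        have hb : (b : N).1 ∈ (S : Subgroup G) ⊓ N := hP.le b.2
        exact mem_cent1.1 ((sup_le (fun v hv => mem_cent1.2 (h.SY hb.1 v hv))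
          fun v hv => mem_cent1.2 (hv _ hb.2).symm : T ⊔ X ≤ centralizer {(b : N).1}) (h.STX ha.1))
      · obtain ⟨P, hP⟩ := exists_sylow_mem (p := orderOf x) (x := x) (k := 1) (by simp)
        refine ⟨P, hP, ?_⟩
        let g := f.comp (P : Subgroup N).subtype
        obtain ⟨k, hk⟩ := (P.2.of_surjective _ g.rangeRestrict_surjective).exists_card_eq
        have d : orderOf x ^ k ∣ 8 * 21945 := by
          have := card_subgroup_dvd_card g.range
          rwa [hk, Nat.card_congr e.toEquiv, H16.J1.card] at this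
        have d2 := ((Nat.coprime_two_right.2 (hp.odd_of_ne_two h2)).pow k 3).dvd_of_dvd_mul_left d
        haveI : IsCyclic g.range := by
          rcases k with _ | _ | k
          · haveI := (Nat.card_eq_one_iff_unique.1 hk).1
            infer_instance
          · exact isCyclic_of_prime_card (hk.trans (pow_one _))
          · exact absurd ((by decide +kernel : Squarefree 21945) (orderOf x)
              ((Dvd.intro (orderOf x ^ k) (by ring) : _ ∣ orderOf x ^ (k + 1 + 1)).trans d2))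
              hp.prime.not_isUnit
        exact g.rangeRestrict.isMulCommutative_of_isCyclic_of_ker_le_center fun y hy =>
          mem_center_iff.2 fun z => Subtype.ext (mem_center_iff.1 (kc (congrArg Subtype.val hy)) z)
    have := (H3.inf_commutator_inf_center_eq_bot _ c P.card_coprime_index).le
      (mem_inf.2 ⟨mem_inf.2 ⟨xP, h.perfect ▸ mem_top x⟩, kc hx⟩)
    rw [mem_bot.1 this, orderOf_one] at hp
    exact Nat.not_prime_one hp
  refine ⟨⟨(MulEquiv.ofBijective f ⟨f.ker_eq_bot_iff.1 k0, fs⟩).trans e⟩, fun m hm => ?_,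
    fun x a b => congrArg Subtype.val (mem_bot.1 (k0.le ((ker ⟨x, a⟩).2 b)))⟩
  obtain ⟨n, hn⟩ := fs (π ⟨m, hm⟩)
  rw [← mul_inv_cancel_left (n : G) m]
  exact mul_mem (mem_sup_left n.2) (mem_sup_right ((QuotientGroup.eq (s := (X).subgroupOf M)).1 hn))

end WS

end Cfsg.Agent.WA
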