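import Cfsg.Agent.WA.Sm4

/-! Weak closure `2 × A₅`: the theorem. -/

set_option autoImplicit false
set_option linter.unusedSectionVars false
set_option linter.style.haveILetI false

namespace Cfsg.Agent.WA

open Subgroup Cfsg.Agent.H11 Cfsg.Agent.JR

universe u
variable {G : Type u} [Group G] [Finite G]

namespace WS
variable {t : G} {S : Sylow 2 G} {T : Subgroup G} {ψ : M5 →* G} (h : WS t S T ψ)
include h

local notation "N" => N0 t T
local notation "X" => centralizer (N0 t T : Set G)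
local notation "M" => normalizer (N0 t T : Set G)

theorem dec {m : G} (hm : m ∈ M) : ∃ n ∈ N, n⁻¹ * m ∈ X :=
  mem_sup_comm (le_normalizer.trans h.normX) (h.iso.2.1 hm)

theorem fusN {x : G} (c : IsConj t x) (hx : x ∈ M) : ∃ n ∈ N, n * t * n⁻¹ = x := by
  obtain ⟨g, rfl⟩ := isConj_iff.1 c
  obtain ⟨n, hn, e⟩ := h.dec (h.uniq hx)
  refine ⟨n, hn, ?_⟩
  calc _ = n * (t * (n⁻¹ * g)) * g⁻¹ := by group
    _ = _ := by rw [e t (h.TN h.uT)]; group

theorem cent_mixed {a x : G} (ha : a ∈ T) (h1 : a ≠ 1) (hx : x ∈ X) (hz : a * x ∈ (S : Subgroup G)) :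
    centralizer {a * x} ≤ M := by
  have TK : T ≤ centralizer {a * x} := fun v hv => mem_cent1.2 (h.SY hz v hv)
  obtain ⟨φ, k⟩ := h.loc ha h1
  intro g hg
  have z := H6.zstar (u := (⟨a, TK ha⟩ : centralizer ({a * x} : Set G)))
    ((orderOf_mk _ _).trans k.ord) (fun g c => Subtype.ext (by
      have gM : (g : G) ∈ M := h.uniq' ha h1 (le_normalizer (h.W_le ha h1
        (subset_closure ⟨isConj_iff.2 ⟨g, rfl⟩, (congrArg Subtype.val c.eq).symm⟩)))
      have e : a⁻¹ * (g * a * g⁻¹ : G) = x * (g * x⁻¹ * g⁻¹) := by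
        calc _ = a⁻¹ * (g * (a * x)) * (x⁻¹ * g⁻¹ : G) := by simp [mul_assoc]
          _ = _ := by rw [mem_cent1.1 g.2]; simp [mul_assoc]
      have := h.iso.2.2 _ (mul_mem (inv_mem (h.TN ha)) (conj_mem_of_mem_normalizer gM (h.TN ha)))
        (e ▸ mul_mem hx (conj_mem_of_mem_normalizer (h.normX gM) (inv_mem hx)))
      exact (inv_mul_eq_one.1 this).symm)) ⟨g, hg⟩
  have n : T ≤ normalizer (((pPrimeCore 2 (centralizer ({a * x} : Set G))).map
      (Subgroup.subtype _) : Subgroup G) : Set G) := TK.trans (by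
    conv_lhs => rw [← range_subtype (centralizer ({a * x} : Set G)), MonoidHom.range_eq_map,
      ← normalizer_eq_top (pPrimeCore 2 (centralizer ({a * x} : Set G)))]
    exact le_normalizer_map _)
  have c : ∀ u ∈ T, u ≠ 1 → centralizer {u} ≤ M := fun u hu h1 g hg =>
    h.uniq' hu h1 (by rw [mem_cent1.1 hg, mul_inv_cancel_right]; exact h.normT (le_normalizer hu))
  have b := h.memT.2 aM_mem
  have ne : t ≠ ψ aM := fun e => d_misc.2.1 (h.inj (e.symm.trans h.z.symm))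
  have O := klein_gen (D := M) h.ord (orderOf_two_of (h.ne d_misc.1) (h.sq b)) ne (h.comm h.uT b)
    (by rw [card_map_subtype]; exact Nat.coprime_two_right.1 (H10.pPrimeCore_coprime 2 _))
    (n h.uT) (n b) (inf_le_right.trans (c _ h.uT h.u1)) (inf_le_right.trans (c _ b (h.ne d_misc.1)))
    (inf_le_right.trans (c _ (mul_mem h.uT b) fun e => ne
      (by rw [eq_inv_of_mul_eq_one_left e, inv_eq_of_mul_eq_one_left (h.sq b)])))
  have := O (mem_map_of_mem _ z)
  refine h.uniq' (inv_mem ha) (by simpa using h1) ?_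
  simpa [mul_assoc] using mul_mem (inv_mem (h.normT (le_normalizer ha))) this

theorem cent_X (ih : ∀ (K : Type u) [Group K] [Finite K], Nat.card K < Nat.card G → ∀ s : K,
    IsTwoCentralInvolution s → Nonempty (Wc s ≃* M5) → Nat.card (normalClosure {s}) = 175560)
    {z : G} (hz : orderOf z = 2) (hx : z ∈ X) : centralizer {z} ≤ M := by
  set K := centralizer ({z} : Set G)
  have NK : N ≤ K := fun n hn => mem_cent1.2 (hx n hn)
  have zK : z ∈ K := mem_cent1.2 rfl
  have zc : zpowers (⟨z, zK⟩ : K) ≤ center K :=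
    zpowers_le.2 (mem_center_iff.2 fun g => Subtype.ext (mem_cent1.1 g.2))
  haveI : (zpowers (⟨z, zK⟩ : K)).Normal := ⟨fun x hx g => by
    rw [mem_center_iff.1 (zc hx) g, mul_inv_cancel_right]; exact hx⟩
  set π := QuotientGroup.mk' (zpowers (⟨z, zK⟩ : K))
  have sj := QuotientGroup.mk'_surjective (zpowers (⟨z, zK⟩ : K))
  have zo : orderOf (⟨z, zK⟩ : K) = 2 := (orderOf_mk _ _).trans hz
  have kX : ∀ x ∈ zpowers (⟨z, zK⟩ : K), (x : G) ∈ X := fun x a =>
    (zpowers_le (H := (X).comap K.subtype)).2 hx a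
  let f : N →* _ := π.comp (inclusion NK)
  have fi : Function.Injective f := (injective_iff_map_eq_one _).2 fun x e =>
    Subtype.ext (h.iso.2.2 _ x.2 (kX _ ((QuotientGroup.eq_one_iff _).1 e)))
  have WN := h.W_le h.uT h.u1
  let φ : M5 →* _ := f.comp (ψ.codRestrict N fun m => WN (h.mem m))
  have φi : Function.Injective φ := fi.comp fun a b e => h.inj (congrArg Subtype.val e)
  have tN := h.TN h.uT
  have fc : ∀ x : N, IsConj t x → IsConj (f ⟨t, tN⟩) (f x) := fun x c => by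
    obtain ⟨n, hn, e⟩ := h.fusN c (le_normalizer x.2)
    exact f.map_isConj (isConj_iff.2 ⟨⟨n, hn⟩, Subtype.ext e⟩)
  have r : Wc (f ⟨t, tN⟩) = φ.range := by
    refine le_antisymm ((closure_le _).2 fun x ⟨c, e⟩ => ?_) ?_
    · obtain ⟨g, rfl⟩ := isConj_iff.1 c
      obtain ⟨g, rfl⟩ := sj g
      have a : (g * ⟨t, NK tN⟩ * g⁻¹ * ⟨t, NK tN⟩) * (g * ⟨t, NK tN⟩ * g⁻¹ * ⟨t, NK tN⟩) ∈
          zpowers (⟨z, zK⟩ : K) := (QuotientGroup.eq_one_iff _).1 (by
        have tt : f ⟨t, tN⟩ * f ⟨t, tN⟩ = 1 := by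
          rw [← map_mul, show (⟨t, tN⟩ * ⟨t, tN⟩ : N) = 1 from Subtype.ext (h.sq h.uT), map_one]
        change π g * f ⟨t, tN⟩ * (π g)⁻¹ * f ⟨t, tN⟩ * (π g * f ⟨t, tN⟩ * (π g)⁻¹ * f ⟨t, tN⟩) = 1
        have e' : π g * f ⟨t, tN⟩ * (π g)⁻¹ * f ⟨t, tN⟩ = f ⟨t, tN⟩ * (π g * f ⟨t, tN⟩ * (π g)⁻¹) := e
        nth_rewrite 1 [e']
        calc _ = f ⟨t, tN⟩ * π g * (f ⟨t, tN⟩ * f ⟨t, tN⟩) * (π g)⁻¹ * f ⟨t, tN⟩ := by group
          _ = 1 := by rw [tt]; simp [tt])
      have b : ((g : G) * t * (g : G)⁻¹ * t) ^ 2 ^ 2 = 1 := by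
        have := pow_card_eq_one' (x := (⟨_, a⟩ : zpowers (⟨z, zK⟩ : K)))
        rw [Nat.card_zpowers, zo] at this
        rw [pow_two 2, pow_mul, pow_two (_ * t)]
        exact congrArg (fun x => (x.1 : G)) this
      have c := isConj_iff.2 ⟨(g : G), (rfl : (g : G) * t * (g : G)⁻¹ = _)⟩
      obtain ⟨m, hm⟩ := h.ex (subset_closure ⟨c, h.comm2 c b⟩)
      exact ⟨m, congrArg π (Subtype.ext hm : _ = g * ⟨t, NK tN⟩ * g⁻¹)⟩
    · rintro _ ⟨m, rfl⟩
      have : Wc t ≤ ((Wc (f ⟨t, tN⟩)).comap f).map (N).subtype := (closure_le _).2 fun x hx =>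
        ⟨⟨x, WN (subset_closure hx)⟩, subset_closure ⟨fc _ hx.1, by
          rw [← map_mul, ← map_mul]; exact congrArg f (Subtype.ext hx.2)⟩, rfl⟩
      exact (mem_map_iff_mem (subtype_injective _)).1 (this (h.mem m))
  obtain ⟨P, hP, TP⟩ := exists_isSylIn_le h.syl.pg (h.TN.trans NK)
  obtain ⟨P', hP'⟩ := hP.exists_sylow
  have c := ih _ (by
      have a := (zpowers (⟨z, zK⟩ : K)).card_mul_index
      have b := card_le_card_group K
      have := Nat.card_pos (α := K)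
      rw [Nat.card_zpowers, zo, index_eq_card] at a
      omega) (f ⟨t, tN⟩) ⟨by rw [orderOf_injective f fi, orderOf_mk, h.ord],
    P'.mapSurjective sj, ⟨_, hP'.ge (TP h.uT), rfl⟩, by
      rintro _ ⟨s, hs, rfl⟩
      exact (map_mul π _ _).symm.trans ((congrArg π (Subtype.ext
        (h.two_le hP.pg TP (hP'.le hs) t h.uT).symm)).trans (map_mul π _ _))⟩
    ⟨(MulEquiv.subgroupCongr r).trans (MonoidHom.ofInjective φi).symm⟩
  have e : f.range = normalClosure {f ⟨t, tN⟩} := by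
    refine eq_of_le_of_card_ge ?_ (by
      rw [c, ← Nat.card_congr (MonoidHom.ofInjective fi).toEquiv, (isJ1_of_iso h.iso.1).2])
    rintro _ ⟨x, rfl⟩
    have : N ≤ ((normalClosure {f ⟨t, tN⟩}).comap f).map (N).subtype := (closure_le _).2 fun x hx =>
      ⟨⟨x, subset_closure hx⟩, conjugatesOfSet_subset_normalClosure
        (Group.mem_conjugatesOfSet_iff.2 ⟨_, rfl, fc _ hx.1⟩), rfl⟩
    exact (mem_map_iff_mem (subtype_injective _)).1 (this x.2)
  intro g hg
  have m : f ⟨t, tN⟩ ∈ normalClosure {f ⟨t, tN⟩} := subset_normalClosure (Set.mem_singleton _)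
  have m2 := normalClosure_normal.conj_mem _ m (π ⟨g, hg⟩)
  rw [← e] at m2
  obtain ⟨n, hn⟩ := m2
  have hn' : π (inclusion NK n) = π (⟨g, hg⟩ * ⟨t, NK tN⟩ * ⟨g, hg⟩⁻¹) := by
    rw [map_mul, map_mul, map_inv]; exact hn
  have := kX _ (QuotientGroup.eq.1 hn')
  exact h.uniq ((mul_mem_cancel_left (inv_mem (le_normalizer n.2))).1 (h.XM this))

theorem top (hc : ∀ z, orderOf z = 2 → z ∈ X → centralizer {z} ≤ M) : M = ⊤ := by
  by_contra ne
  have c : ∀ z ∈ (S : Subgroup G), orderOf z = 2 → centralizer {z} ≤ M := fun z hz o => by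
    obtain ⟨a, ha, b⟩ := mem_sup_comm (h.TN.trans (le_normalizer.trans h.normX)) (h.STX hz)
    by_cases e : a = 1
    · exact hc z o (by simpa [e] using b)
    · simpa using h.cent_mixed ha e b (by simpa using hz)
  have s := isSylIn_of_sylow_le S h.SM
  have tM := h.SM (h.TS h.uT)
  have se : IsStronglyEmbedded M := by
    refine isStronglyEmbedded_iff.2 ⟨ne, even_card_of_invol tM h.ord, fun u hu o g hg => ?_⟩
    obtain ⟨a, ha, e1⟩ := s.exists_conj_invol_mem o hu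
    obtain ⟨b, hb, e2⟩ := s.exists_conj_invol_mem ((orderOf_conj g u).trans o) hg
    have := c _ e1 ((orderOf_conj a u).trans o) (x := (b * g * a⁻¹)⁻¹ * t * (b * g * a⁻¹)⁻¹⁻¹)
      (mem_cent1.2 (by
        calc _ = (b * g * a⁻¹)⁻¹ * (t * (b * (g * u * g⁻¹) * b⁻¹)) * (b * g * a⁻¹) := by group
          _ = _ := by rw [h.SY e2 t h.uT]; group))
    simpa [mul_assoc] using mul_mem (mul_mem (inv_mem hb) (inv_mem (h.uniq this))) ha
  have b := h.memT.2 aM_mem
  obtain ⟨Q, -, hQ, hN, ho, tr⟩ := BS.Bd.bender_Q se ⟨t, ψ aM, h.u1, h.ne d_misc.1,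
    fun e => d_misc.2.1 (h.inj (e.symm.trans h.z.symm)), h.sq h.uT, h.sq b, h.comm h.uT b⟩
  haveI := (isJ1_of_iso h.iso.1).1
  have tN := h.TN h.uT
  have nb : ∀ K : Subgroup G, N ≤ normalizer (K : Set G) → K.subgroupOf N = ⊥ ∨ N ≤ K :=
    fun K hK => (IsSimpleGroup.eq_bot_or_eq_top_of_normal _
      (normal_subgroupOf_of_le_normalizer hK)).imp_right subgroupOf_eq_top.1
  have q0 : Q.subgroupOf N = ⊥ := by
    refine (nb Q (le_normalizer.trans hN)).resolve_right fun a => ?_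
    have r3 : orderOf (ψ rM) = 3 := by
      rw [orderOf_injective ψ h.inj]
      exact orderOf_eq_prime (by decide +kernel) M5_rel.2.2.2.2.2.2.2.2
    have rN := h.W_le h.uT h.u1 (h.mem rM)
    rcases nb (oddCore G) (le_top.trans (normalizer_eq_top _).ge) with e | e
    · exact h.ne M5_rel.2.2.2.2.2.2.2.2 (congrArg Subtype.val
        (mem_bot.1 (e.le (ho _ (a rN) (r3 ▸ by decide) : (⟨_, rN⟩ : N) ∈ _))))
    · have := GW.odd_oddCore.of_dvd_nat ((oddCore G).orderOf_dvd_natCard (e tN))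
      rw [h.ord] at this
      exact absurd this (by decide)
  obtain ⟨g, hg⟩ : ∃ g, g ∉ M := by
    by_contra! a
    exact ne (eq_top_iff.2 fun x _ => a x)
  obtain ⟨q, hq, e⟩ := tr g (t * g) hg fun a => hg ((mul_mem_cancel_left tM).1 a)
  have o := SE.odd_orderOf_of_mem_inf se hg (mul_mem (inv_mem tM) (hQ hq))
    (by simpa [mul_assoc] using e)
  have cq : Commute t⁻¹ q := by
    have : (⟨t⁻¹ * (q * t * q⁻¹), mul_mem (inv_mem tN) (conj_mem_of_mem_normalizer (hQ hq) tN)⟩ : N)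
        ∈ Q.subgroupOf N := by
      have := mul_mem (conj_mem_of_mem_normalizer' (hN tM) hq) (inv_mem hq)
      simpa [mem_subgroupOf, mul_assoc] using this
    rw [q0, mem_bot, Subtype.ext_iff] at this
    exact (Commute.inv_left_iff.2 (eq_mul_inv_iff_mul_eq.1 (inv_mul_eq_one.1 this)))
  have p := pow_orderOf_eq_one (t⁻¹ * q)
  obtain ⟨k, hk⟩ := o
  rw [cq.mul_pow, hk, pow_succ, pow_mul, pow_two, h.sq (inv_mem h.uT), one_pow, one_mul,
    inv_mul_eq_one] at p
  exact h.u1 (congrArg Subtype.val (mem_bot.1 (q0.le (p ▸ pow_mem hq _ : (⟨t, tN⟩ : N) ∈ _))))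

end WS

theorem j1_weak (n : ℕ) : ∀ (G : Type u) [Group G] [Finite G], Nat.card G < n → ∀ t : G,
    IsTwoCentralInvolution t → Nonempty (Wc t ≃* M5) → Spor.IsoJ1 (normalClosure ({t} : Set G)) := by
  induction n with
  | zero => intro G _ _ h; omega
  | succ n ih =>
  intro G _ _ hn t ht ⟨e⟩
  obtain ⟨S, T, ψ, h⟩ := exists_WS ht e
  haveI := normalizer_eq_top_iff.1 (h.top fun z a b => h.cent_X
    (fun K _ _ c s d e => (isJ1_of_iso (ih K (by omega) s d e)).2) a b)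
  rw [le_antisymm (normalClosure_le_normal (N := N0 t T) (Set.singleton_subset_iff.2 (h.TN h.uT)))
    ((closure_le _).2 fun x hx => conjugatesOfSet_subset_normalClosure
      (Group.mem_conjugatesOfSet_iff.2 ⟨_, rfl, hx.1⟩))]
  exact h.iso.1

end Cfsg.Agent.WA
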